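import Groth.Agent.MonoLocusLib.Alg
import Groth.Agent.MultSubLib.Chars
import Groth.Agent.MultLiftLib.Eq
import Groth.Agent.GrpShear

/-!
# A torus acting faithfully on a variety acts freely on a dense open
-/

set_option autoImplicit false
set_option backward.isDefEq.respectTransparency false

noncomputable section

universe u

open CategoryTheory CategoryTheory.Limits MonoidalCategory CartesianMonoidalCategory AlgebraicGeometry
open scoped MonObj TensorProduct

namespace Groth.Agent.TorusGenFree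

open MonoLocus (ev ev_single ev_comp Trv MulClosed mp uchr)

variable {K : Type u} [Field K] {M : Type} [AddCommGroup M]
  {T X : Over (Spec (CommRingCat.of K))} [GrpObj T] (w : Red.DS (Spec (CommRingCat.of K)) M ⟶ T) [IsMonHom w]

/-- A point given by characters. -/
def gpt {B : Type u} [CommRing B] (c : Spec (CommRingCat.of B) ⟶ Spec (CommRingCat.of K))
    (χ : Multiplicative M →* B) : Over.mk c ⟶ T :=
  DSPtsLib.dsPt (S := Spec (CommRingCat.of K)) (T := Over.mk c)
    ((Scheme.ΓSpecIso (CommRingCat.of B)).inv.hom.toMonoidHom.comp χ) ≫ w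

omit [GrpObj T] [IsMonHom w] in
theorem comp_gpt {B B' : Type u} [CommRing B] [CommRing B']
    {c : Spec (CommRingCat.of B) ⟶ Spec (CommRingCat.of K)} {c' : Spec (CommRingCat.of B') ⟶ Spec (CommRingCat.of K)}
    (σ : B →+* B') (m : Over.mk c' ⟶ Over.mk c) (hm : m.left = Spec.map (CommRingCat.ofHom σ))
    (χ : Multiplicative M →* B) : m ≫ gpt w c χ = gpt w c' (σ.toMonoidHom.comp χ) := by
  rw [gpt, ← Category.assoc, DSPtsLib.dsPt_natural, gpt]
  congr 2
  refine MonoidHom.ext fun x => ?_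
  show m.left.appTop ((Scheme.ΓSpecIso (CommRingCat.of B)).inv (χ x)) =
    (Scheme.ΓSpecIso (CommRingCat.of B')).inv (σ (χ x))
  rw [hm]
  exact (congrArg (fun ψ => (ConcreteCategory.hom ψ) (χ x))
    (Scheme.ΓSpecIso_inv_naturality (CommRingCat.ofHom σ))).symm

theorem gpt_mul {B : Type u} [CommRing B] (c : Spec (CommRingCat.of B) ⟶ Spec (CommRingCat.of K))
    (χ χ' : Multiplicative M →* B) : gpt w c (χ * χ') = gpt w c χ * gpt w c χ' := by
  rw [gpt, gpt, gpt, ← MonObj.mul_comp, ← DSPtsLib.dsPt_mul]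
  congr 2
  exact MonoidHom.ext fun x => by simp

theorem gpt_one {B : Type u} [CommRing B] (c : Spec (CommRingCat.of B) ⟶ Spec (CommRingCat.of K)) :
    gpt w c (1 : Multiplicative M →* B) = 1 := by
  have h := gpt_mul w c (1 : Multiplicative M →* B) 1
  rw [_root_.one_mul] at h
  exact left_eq_mul.1 h

omit [GrpObj T] [IsMonHom w] in
theorem exists_gpt [IsIso w] {B : Type u} [CommRing B] {c : Spec (CommRingCat.of B) ⟶ Spec (CommRingCat.of K)}
    (g : Over.mk c ⟶ T) : ∃ χ : Multiplicative M →* B, g = gpt w c χ := by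
  refine ⟨(Scheme.ΓSpecIso (CommRingCat.of B)).hom.hom.toMonoidHom.comp (MultSubLib.chars (g ≫ inv w)), ?_⟩
  rw [gpt, show (Scheme.ΓSpecIso (CommRingCat.of B)).inv.hom.toMonoidHom.comp
    ((Scheme.ΓSpecIso (CommRingCat.of B)).hom.hom.toMonoidHom.comp (MultSubLib.chars (g ≫ inv w))) =
      MultSubLib.chars (g ≫ inv w) from MonoidHom.ext fun x =>
        congrArg (fun ψ => (ConcreteCategory.hom ψ) (MultSubLib.chars (g ≫ inv w) x))
          (Scheme.ΓSpecIso (CommRingCat.of B)).hom_inv_id,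
    MultSubLib.dsPt_chars, Category.assoc, IsIso.inv_hom_id, Category.comp_id]

variable (a : AlgGrp.Action T X)

/-- The point given by characters fixes the point `p`. -/
def Fix {B : Type u} [CommRing B] (p : Spec (CommRingCat.of B) ⟶ X.left) (χ : Multiplicative M →* B) : Prop :=
  lift (gpt w (p ≫ X.hom) χ) (Over.homMk p rfl : Over.mk (p ≫ X.hom) ⟶ X) ≫ a.act = Over.homMk p rfl

theorem fix_one {B : Type u} [CommRing B] (p : Spec (CommRingCat.of B) ⟶ X.left) :
    Fix w a p (1 : Multiplicative M →* B) := by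
  rw [Fix, gpt_one, GrpShear.lift_one_act]

theorem fix_mul {B : Type u} [CommRing B] (p : Spec (CommRingCat.of B) ⟶ X.left) {χ χ' : Multiplicative M →* B}
    (h : Fix w a p χ) (h' : Fix w a p χ') : Fix w a p (χ * χ') := by
  rw [Fix] at h h' ⊢
  rw [gpt_mul, GrpShear.lift_mul_act, h', h]

/-- The equations of the fixed locus. -/
theorem exists_ideal [IsSeparated X.hom] {R : Type u} [CommRing R] (j : Spec (CommRingCat.of R) ⟶ X.left) :
    ∃ I : Ideal (MonoidAlgebra R (Multiplicative M)), ∀ (B : Type u) [CommRing B] (φ : R →+* B)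
      (χ : Multiplicative M →* B), Fix w a (Spec.map (CommRingCat.ofHom φ) ≫ j) χ ↔ I ≤ RingHom.ker (ev φ χ) := by
  let A := MonoidAlgebra R (Multiplicative M)
  let p₀ : Spec (CommRingCat.of A) ⟶ X.left := Spec.map (CommRingCat.ofHom MonoidAlgebra.singleOneRingHom) ≫ j
  let x₀ : Over.mk (p₀ ≫ X.hom) ⟶ X := Over.homMk p₀ rfl
  let h₁ : Over.mk (p₀ ≫ X.hom) ⟶ X := lift (gpt w (p₀ ≫ X.hom) (MonoidAlgebra.of R (Multiplicative M))) x₀ ≫ a.act
  let Δ : X ⟶ X ⊗ X := lift (𝟙 X) (𝟙 X)
  haveI : IsClosedImmersion Δ.left := by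
    haveI : IsClosedImmersion (Δ.left ≫ (fst X X).left) := by
      rw [← Over.comp_left, lift_fst, Over.id_left]; infer_instance
    haveI : IsSeparated (fst X X).left := by rw [Over.fst_left]; infer_instance
    exact IsClosedImmersion.of_comp Δ.left (fst X X).left
  let E := Limits.pullback (lift h₁ x₀).left Δ.left
  let π : E ⟶ Spec (CommRingCat.of A) := pullback.fst _ _
  haveI : IsClosedImmersion π := inferInstanceAs (IsClosedImmersion (pullback.fst (lift h₁ x₀).left Δ.left))
  obtain ⟨I, e, he⟩ := IsClosedImmersion.Spec_iff.1 ‹IsClosedImmersion π›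
  refine ⟨I, fun B _ φ χ => ?_⟩
  have hp : Spec.map (CommRingCat.ofHom (ev φ χ)) ≫ p₀ = Spec.map (CommRingCat.ofHom φ) ≫ j := by
    rw [← Category.assoc, ← Spec.map_comp, ← CommRingCat.ofHom_comp,
      show (ev φ χ).comp MonoidAlgebra.singleOneRingHom = φ from RingHom.ext fun r => by
        show ev φ χ (MonoidAlgebra.single 1 r) = φ r
        rw [ev_single, map_one, mul_one]]
  let m : Over.mk ((Spec.map (CommRingCat.ofHom φ) ≫ j) ≫ X.hom) ⟶ Over.mk (p₀ ≫ X.hom) :=
    Over.homMk (Spec.map (CommRingCat.ofHom (ev φ χ))) (by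
      show Spec.map (CommRingCat.ofHom (ev φ χ)) ≫ p₀ ≫ X.hom = (Spec.map (CommRingCat.ofHom φ) ≫ j) ≫ X.hom
      rw [← Category.assoc, hp])
  have hx : m ≫ x₀ = Over.homMk (Spec.map (CommRingCat.ofHom φ) ≫ j) rfl := Over.OverMorphism.ext hp
  have hh : m ≫ h₁ = lift (gpt w _ χ) (Over.homMk (Spec.map (CommRingCat.ofHom φ) ≫ j) rfl) ≫ a.act := by
    rw [comp_lift_assoc, hx, comp_gpt w (ev φ χ) m rfl]
    congr 3
    refine MonoidHom.ext fun x => ?_
    show ev φ χ (MonoidAlgebra.single x 1) = χ x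
    rw [ev_single, map_one, one_mul]
  rw [Fix, ← hh, ← hx]
  constructor
  · intro hf
    let m' : Spec (CommRingCat.of B) ⟶ E := pullback.lift m.left (m ≫ x₀).left (by
      show m.left ≫ (lift h₁ x₀).left = (m ≫ x₀).left ≫ Δ.left
      rw [← Over.comp_left, ← Over.comp_left, comp_lift, comp_lift, Category.comp_id, hf])
    obtain ⟨χ', hχ'⟩ := Spec.map_surjective (m' ≫ e.hom)
    have h1 : CommRingCat.ofHom (Ideal.Quotient.mk I) ≫ χ' = CommRingCat.ofHom (ev φ χ) := by
      refine Spec.map_injective ((Spec.map_comp _ _).trans ?_)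
      rw [hχ', Category.assoc, ← he]
      exact pullback.lift_fst _ _ _
    intro y hy
    rw [RingHom.mem_ker, ← CommRingCat.hom_ofHom (ev φ χ), ← h1]
    show χ'.hom (Ideal.Quotient.mk I y) = 0
    rw [Ideal.Quotient.eq_zero_iff_mem.2 hy, map_zero]
  · intro hle
    let y : Spec (CommRingCat.of B) ⟶ E :=
      Spec.map (CommRingCat.ofHom (Ideal.Quotient.lift I (ev φ χ) fun x hx => RingHom.mem_ker.1 (hle hx))) ≫ e.inv
    have hy : y ≫ π = m.left := by
      rw [Category.assoc, he, Iso.inv_hom_id_assoc, ← Spec.map_comp]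
      rfl
    let y₂ : Spec (CommRingCat.of B) ⟶ X.left := y ≫ pullback.snd (lift h₁ x₀).left Δ.left
    have h2 : m.left ≫ (lift h₁ x₀).left = y₂ ≫ Δ.left := by
      rw [← hy]
      simp only [π, y₂, Category.assoc, pullback.condition]
    have h1a : (m ≫ h₁).left = y₂ := by
      have := congrArg (· ≫ (fst X X).left) h2
      simp only [Category.assoc, ← Over.comp_left, lift_fst] at this
      simpa [Δ] using this
    have h2a : (m ≫ x₀).left = y₂ := by
      have := congrArg (· ≫ (snd X X).left) h2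
      simp only [Category.assoc, ← Over.comp_left, lift_snd] at this
      simpa [Δ] using this
    exact Over.OverMorphism.ext (h1a.trans h2a.symm)

variable [IsSeparated X.hom] [IsIntegral X.left] [IsIso w]

omit [IsSeparated X.hom] [IsIso w] in
theorem mulClosed {R : Type u} [CommRing R] {j : Spec (CommRingCat.of R) ⟶ X.left}
    {I : Ideal (MonoidAlgebra R (Multiplicative M))}
    (hI : ∀ (B : Type u) [CommRing B] (φ : R →+* B) (χ : Multiplicative M →* B),
      Fix w a (Spec.map (CommRingCat.ofHom φ) ≫ j) χ ↔ I ≤ RingHom.ker (ev φ χ)) : MulClosed I :=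
  fun B _ φ χ χ' h h' => (hI B φ _).1 (fix_mul w a _ ((hI B φ χ).2 h) ((hI B φ χ').2 h'))

omit [IsSeparated X.hom] [IsIntegral X.left] [IsIso w] in
/-- Equations transported along an injective ring map. -/
theorem le_ker_of_injective {Q : Type} [CommGroup Q] (π : Multiplicative M →* Q)
    {R : Type u} [CommRing R] (j : Spec (CommRingCat.of R) ⟶ X.left) {I : Ideal (MonoidAlgebra R (Multiplicative M))}
    (hI : ∀ (B : Type u) [CommRing B] (φ : R →+* B) (χ : Multiplicative M →* B),
      Fix w a (Spec.map (CommRingCat.ofHom φ) ≫ j) χ ↔ I ≤ RingHom.ker (ev φ χ))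
    {R' : Type u} [CommRing R'] (j' : Spec (CommRingCat.of R') ⟶ X.left)
    {I' : Ideal (MonoidAlgebra R' (Multiplicative M))}
    (hI' : ∀ (B : Type u) [CommRing B] (φ : R' →+* B) (χ : Multiplicative M →* B),
      Fix w a (Spec.map (CommRingCat.ofHom φ) ≫ j') χ ↔ I' ≤ RingHom.ker (ev φ χ))
    {F : Type u} [CommRing F] (ψ : R →+* F) (ψ' : R' →+* F) (hψi : Function.Injective ψ')
    (hψc : Spec.map (CommRingCat.ofHom ψ') ≫ j' = Spec.map (CommRingCat.ofHom ψ) ≫ j)
    (hfix : ∀ (B : Type u) [CommRing B] (g : F →+* B) (χ : Q →* B), I ≤ RingHom.ker (ev (g.comp ψ) (χ.comp π))) :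
    I' ≤ RingHom.ker (ev MonoidAlgebra.singleOneRingHom ((MonoidAlgebra.of R' Q).comp π)) := by
  intro f hf
  have h3 : I' ≤ RingHom.ker (ev (MonoidAlgebra.singleOneRingHom.comp ψ') ((MonoidAlgebra.of F Q).comp π)) := by
    refine (hI' (MonoidAlgebra F Q) _ _).1 ?_
    have h4 := (hI (MonoidAlgebra F Q) (MonoidAlgebra.singleOneRingHom.comp ψ) ((MonoidAlgebra.of F Q).comp π)).2
      (hfix (MonoidAlgebra F Q) MonoidAlgebra.singleOneRingHom (MonoidAlgebra.of F Q))
    rw [CommRingCat.ofHom_comp, Spec.map_comp, Category.assoc] at h4 ⊢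
    rwa [hψc]
  have hinj : Function.Injective (MonoidAlgebra.mapRingHom Q ψ') := MonoidAlgebra.map_injective ψ'.toAddMonoidHom hψi
  refine RingHom.mem_ker.2 (hinj ?_)
  rw [map_zero, ← RingHom.comp_apply]
  refine Eq.trans (congrFun (congrArg DFunLike.coe ?_) f) (RingHom.mem_ker.1 (h3 hf))
  refine MonoidAlgebra.ringHom_ext (fun r => ?_) fun q => ?_
  · simp [ev_single]
  · simp [ev_single]

/-- The universal point of a quotient of the character group. -/
theorem le_ker_of_univ {Q : Type} [CommGroup Q] (π : Multiplicative M →* Q) {R' B : Type u} [CommRing R'] [CommRing B]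
    {I' : Ideal (MonoidAlgebra R' (Multiplicative M))}
    (h : I' ≤ RingHom.ker (ev MonoidAlgebra.singleOneRingHom ((MonoidAlgebra.of R' Q).comp π)))
    (φ : R' →+* B) (χ : Q →* B) : I' ≤ RingHom.ker (ev φ (χ.comp π)) := by
  let Φ : MonoidAlgebra R' Q →+* B := MonoidAlgebra.liftNCRingHom φ χ fun _ _ => Commute.all _ _
  intro f hf
  have hΦ : ev φ (χ.comp π) = Φ.comp (ev MonoidAlgebra.singleOneRingHom ((MonoidAlgebra.of R' Q).comp π)) := by
    refine MonoidAlgebra.ringHom_ext (fun r => ?_) fun q => ?_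
    · simp [Φ, ev_single]
    · simp [Φ, ev_single]
  rw [RingHom.mem_ker, hΦ, RingHom.comp_apply, RingHom.mem_ker.1 (h hf), map_zero]

/-- The generic stabiliser of a faithful action is trivial. -/
theorem trv_generic
    (hfaith : ∀ (S : Over (Spec (CommRingCat.of K))) (g : S ⟶ T),
      (∀ (S' : Over (Spec (CommRingCat.of K))) (s : S' ⟶ S) (x : S' ⟶ X), lift (s ≫ g) x ≫ a.act = x) → g = 1)
    {R : Type u} [CommRing R] (j : Spec (CommRingCat.of R) ⟶ X.left) {I : Ideal (MonoidAlgebra R (Multiplicative M))}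
    (hI : ∀ (B : Type u) [CommRing B] (φ : R →+* B) (χ : Multiplicative M →* B),
      Fix w a (Spec.map (CommRingCat.ofHom φ) ≫ j) χ ↔ I ≤ RingHom.ker (ev φ χ))
    {F : Type u} [Field F] (ψ : R →+* F)
    (hψ : 
      ∀ V : X.left.affineOpens, Nonempty (V : X.left.Opens) → ∃ ψ' : Γ(X.left, V) →+* F, Function.Injective ψ' ∧
        Spec.map (CommRingCat.ofHom ψ') ≫ V.2.fromSpec = Spec.map (CommRingCat.ofHom ψ) ≫ j) :
    Trv I ψ := by
  classical
  obtain ⟨Δ, hΔ⟩ := MonoLocus.exists_diag_uchr I (mulClosed w a hI) ψ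
  let e := uchr I ψ
  haveI : Nontrivial (MonoidAlgebra F (Multiplicative M) ⧸ I.map (mp ψ)) := by
    refine Ideal.Quotient.nontrivial_iff.2 fun h => ?_
    have h1 : I.map (mp ψ) ≤ RingHom.ker (ev (RingHom.id F) (1 : Multiplicative M →* F)) := by
      refine Ideal.map_le_iff_le_comap.2 fun f hf => ?_
      have h2 := (hI F ψ 1).1 (fix_one w a _) hf
      rw [Ideal.mem_comap, RingHom.mem_ker, ← RingHom.comp_apply,
        show (ev (RingHom.id F) (1 : Multiplicative M →* F)).comp (mp ψ) = ev ψ 1 from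
          MonoidAlgebra.ringHom_ext (fun r => by simp [MonoLocus.mp_single, ev_single])
            fun m => by simp [MonoLocus.mp_single, ev_single]]
      exact h2
    have h3 := h1 (h ▸ Submodule.mem_top : (1 : MonoidAlgebra F (Multiplicative M)) ∈ I.map (mp ψ))
    rw [RingHom.mem_ker, map_one] at h3
    exact one_ne_zero h3
  have he0 : ∀ m, e m ≠ 0 := fun m h => one_ne_zero (α := MonoidAlgebra F (Multiplicative M) ⧸ I.map (mp ψ))
    (by rw [← map_one e, ← mul_inv_cancel m, map_mul, h, zero_mul])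
  let N : Subgroup (Multiplicative M) := e.toHomUnits.ker
  let π := QuotientGroup.mk' N
  have hfib : ∀ j₁ j₂, π j₁ = π j₂ ↔ e j₁ = e j₂ := fun j₁ j₂ => by
    show (j₁ : Multiplicative M ⧸ N) = j₂ ↔ _
    rw [QuotientGroup.eq, MonoidHom.mem_ker, map_mul, map_inv, inv_mul_eq_one]
    exact Units.ext_iff
  -- the subgroup fixes the generic point
  have hfix : ∀ (B : Type u) [CommRing B] (g : F →+* B) (χ : (Multiplicative M ⧸ N) →* B),
      I ≤ RingHom.ker (ev (g.comp ψ) (χ.comp π)) := by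
    intro B _ g χ f hf
    let Fs := f.coeff.support
    rw [RingHom.mem_ker, ← MonoidAlgebra.sum_single f,
      Finsupp.sum_of_support_subset _ (Finset.Subset.refl _) _ (by simp), map_sum]
    have h0 : ∑ m ∈ Fs, ψ (f.coeff m) • e m = 0 := by
      have h0 : Ideal.Quotient.mkₐ F (I.map (mp ψ)) (mp ψ f) = 0 :=
        Ideal.Quotient.eq_zero_iff_mem.2 (Ideal.mem_map_of_mem _ hf)
      rw [MonoLocus.mp_eq_sum f ψ Fs (Finset.Subset.refl _), map_sum] at h0
      rw [← h0]
      refine Finset.sum_congr rfl fun j _ => ?_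
      have : MonoidAlgebra.single j (ψ (f.coeff j)) = ψ (f.coeff j) • MonoidAlgebra.single j (1 : F) := by simp
      rw [this, map_smul]
      rfl
    rw [← Finset.sum_fiberwise_of_maps_to (fun j hj => Finset.mem_image_of_mem e hj)] at h0
    have h1 := MonoLocus.linearIndepOn_sq Δ (Fs.image e) (fun b hb => by
        obtain ⟨j, -, rfl⟩ := Finset.mem_image.1 hb
        exact hΔ j) (fun b hb => by
        obtain ⟨j, -, rfl⟩ := Finset.mem_image.1 hb
        exact he0 j) (fun b => ∑ j ∈ Fs.filter (fun j => e j = b), ψ (f.coeff j)) (by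
          rw [← h0]
          refine Finset.sum_congr rfl fun b _ => ?_
          rw [Finset.sum_smul]
          exact Finset.sum_congr rfl fun j hj => by rw [(Finset.mem_filter.1 hj).2])
    rw [← Finset.sum_fiberwise_of_maps_to (fun j hj => Finset.mem_image_of_mem e hj)]
    refine Finset.sum_eq_zero fun b hb => ?_
    obtain ⟨j₀, -, rfl⟩ := Finset.mem_image.1 hb
    have h2 : ∀ j ∈ Fs.filter (fun j => e j = e j₀),
        ev (g.comp ψ) (χ.comp π) (MonoidAlgebra.single j (f.coeff j)) = g (ψ (f.coeff j)) * χ (π j₀) := fun j hj => by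
      rw [ev_single, ← (hfib j j₀).2 (Finset.mem_filter.1 hj).2]
      rfl
    rw [Finset.sum_congr rfl h2, ← Finset.sum_mul, ← map_sum, h1 _ hb, map_zero, zero_mul]
  -- hence it acts trivially
  let A := MonoidAlgebra K (Multiplicative M ⧸ N)
  let χA : Multiplicative M →* A := (MonoidAlgebra.of K (Multiplicative M ⧸ N)).comp π
  let cA : Spec (CommRingCat.of A) ⟶ Spec (CommRingCat.of K) :=
    Spec.map (CommRingCat.ofHom MonoidAlgebra.singleOneRingHom)
  have htriv : gpt w cA χA = 1 := by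
    refine hfaith _ _ fun S' s x => ?_
    refine Over.OverMorphism.ext (Scheme.hom_ext_of_forall _ _ fun z => ?_)
    obtain ⟨_, ⟨V₀, hV, rfl⟩, hzV, -⟩ :=
      X.left.isBasis_affineOpens.exists_subset_of_mem_open (Set.mem_univ (x.left z)) isOpen_univ
    obtain ⟨_, ⟨W, hW, rfl⟩, hzW, hWV⟩ :=
      S'.left.isBasis_affineOpens.exists_subset_of_mem_open (show z ∈ x.left ⁻¹ᵁ V₀ from hzV) (x.left ⁻¹ᵁ V₀).2
    refine ⟨W, hzW, ?_⟩
    obtain ⟨ψ', hψi, hψc⟩ := hψ ⟨V₀, hV⟩ ⟨⟨_, hzV⟩⟩
    obtain ⟨I', hI'⟩ := exists_ideal w a hV.fromSpec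
    let B := Γ(S'.left, W)
    let p : Spec (CommRingCat.of B) ⟶ X.left := Spec.map (x.left.appLE V₀ W hWV) ≫ hV.fromSpec
    have hp : p = hW.fromSpec ≫ x.left := IsAffineOpen.SpecMap_appLE_fromSpec x.left hV hW hWV
    let σ : A →+* B := (Spec.preimage (hW.fromSpec ≫ s.left)).hom
    have hσ : Spec.map (CommRingCat.ofHom σ) = hW.fromSpec ≫ s.left := Spec.map_preimage _
    let m : Over.mk (p ≫ X.hom) ⟶ S' := Over.homMk hW.fromSpec (by
      show hW.fromSpec ≫ S'.hom = p ≫ X.hom
      rw [hp, Category.assoc, Over.w x])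
    have hs : m ≫ s ≫ gpt w cA χA = gpt w (p ≫ X.hom) (σ.toMonoidHom.comp χA) := by
      rw [← Category.assoc]
      exact comp_gpt w σ (m ≫ s) hσ.symm χA
    have hfx : Fix w a p (σ.toMonoidHom.comp χA) := by
      refine (hI' _ (x.left.appLE V₀ W hWV).hom _).2 ?_
      exact le_ker_of_univ π (le_ker_of_injective w a π j hI hV.fromSpec hI' ψ ψ' hψi hψc hfix)
        (x.left.appLE V₀ W hWV).hom (σ.toMonoidHom.comp (MonoidAlgebra.of K (Multiplicative M ⧸ N)))
    have hmx : m ≫ x = Over.homMk p rfl := Over.OverMorphism.ext hp.symm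
    have h5 : m ≫ lift (s ≫ gpt w cA χA) x ≫ a.act = m ≫ x := by
      rw [comp_lift_assoc, hs, hmx]
      exact hfx
    have h6 := congrArg CommaMorphism.left h5
    rw [← cancel_epi hW.isoSpec.inv, ← Category.assoc, ← Category.assoc, IsAffineOpen.isoSpec_inv_ι]
    exact h6
  -- so there is no subgroup
  have hcA : ∀ q, χA q = 1 := by
    have h7 : MultSubLib.chars ((gpt w cA χA) ≫ inv w) = MultSubLib.chars ((1 : Over.mk cA ⟶ T) ≫ inv w) := by
      rw [htriv]
    rw [gpt, Category.assoc, IsIso.hom_inv_id, Category.comp_id, MultSubLib.chars_dsPt,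
      ← gpt_one w cA, gpt, Category.assoc, IsIso.hom_inv_id, Category.comp_id, MultSubLib.chars_dsPt] at h7
    intro q
    exact (Scheme.ΓSpecIso (CommRingCat.of A)).symm.commRingCatIsoToRingEquiv.injective (DFunLike.congr_fun h7 q)
  intro B _ g χ hχ
  refine MonoidHom.ext fun q => ?_
  have hq : π q = π 1 := by
    rw [map_one]
    exact MonoidAlgebra.of_injective ((hcA q).trans (map_one _).symm)
  let G : MonoidAlgebra F (Multiplicative M) →+* B := ev g χ
  have hG : I.map (mp ψ) ≤ RingHom.ker G := by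
    refine Ideal.map_le_iff_le_comap.2 fun f hf => ?_
    rw [Ideal.mem_comap, RingHom.mem_ker, ← RingHom.comp_apply,
      show G.comp (mp ψ) = ev (g.comp ψ) χ from
        MonoidAlgebra.ringHom_ext (fun r => by simp [G, MonoLocus.mp_single, ev_single])
          fun m => by simp [G, MonoLocus.mp_single, ev_single]]
    exact hχ hf
  have := hG (Ideal.Quotient.eq.1 ((hfib q 1).1 hq))
  rw [RingHom.mem_ker, map_sub, sub_eq_zero] at this
  simpa [G, ev_single] using this

end Groth.Agent.TorusGenFree
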